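import Mathlib
import Groth.Agent.FlatDvr.FibreStalk

/-!
# Components of a flat family over a DVR with reduced special fibre
-/

set_option autoImplicit false
set_option backward.isDefEq.respectTransparency false
set_option backward.isDefEq.respectTransparency.types false
universe u

open AlgebraicGeometry CategoryTheory CategoryTheory.Limits IsLocalRing

namespace Groth.Agent.UpperComp

/-- If `t` is regular, `A/tA` reduced and the maximal ideal is minimal over `p + (t)` for a minimal
prime `p`, then `A` is a domain whose maximal ideal is the only prime containing `t`. -/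
theorem isDomain_of_minimal_over {A : Type u} [CommRing A] [IsLocalRing A] [IsNoetherianRing A]
    {t : A} (ht : t ∈ maximalIdeal A) (hreg : IsSMulRegular A t)
    (hred : _root_.IsReduced (A ⧸ Ideal.span {t})) {p : Ideal A} (hp : p ∈ minimalPrimes A)
    (hmin : ∀ q : Ideal A, q.IsPrime → p ≤ q → t ∈ q → q = maximalIdeal A) :
    IsDomain A ∧ ∀ q : Ideal A, q.IsPrime → t ∈ q → q = maximalIdeal A := by
  haveI := hp.1.1
  have htp : t ∉ p := fun h => by
    refine Set.disjoint_left.mp (Ideal.disjoint_nonZeroDivisors_of_mem_minimalPrimes hp) h ?_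
    rw [SetLike.mem_coe, mem_nonZeroDivisors_iff_right]
    exact fun z hz => hreg (by simpa [smul_eq_mul, mul_comm] using hz : t • z = t • (0 : A))
  obtain ⟨a, ha, hat⟩ : ∃ a : A, (∀ c, c ∈ p ↔ c * a = 0) ∧ a ∉ Ideal.span {t} := by
    obtain ⟨-, x, hx⟩ := isAssociatedPrime_iff.mp (show IsAssociatedPrime p A from
      Module.associatedPrimes.minimalPrimes_annihilator_subset_associatedPrimes A A (by
        rw [Module.annihilator_eq_bot.mpr inferInstance]; exact hp))
    have hx' : ∀ c, c ∈ p ↔ c * x = 0 := fun c => by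
      rw [hx]; simp [Submodule.mem_colon_singleton]
    have hx0 : x ≠ 0 := fun h => Ideal.IsPrime.ne_top (I := p) inferInstance
      ((Ideal.eq_top_iff_one p).mpr ((hx' 1).mpr (by rw [h, mul_zero])))
    have hbot := Ideal.iInf_pow_eq_bot_of_isLocalRing (Ideal.span {t})
      (fun h => (maximalIdeal.isMaximal A).ne_top (top_le_iff.mp
        (h ▸ (Ideal.span_singleton_le_iff_mem _).mpr ht)))
    have hex : ∃ n, x ∉ Ideal.span {t} ^ n := by
      by_contra hcon
      push Not at hcon
      exact hx0 (by simpa [hbot] using (Ideal.mem_iInf.mpr hcon))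
    classical
    obtain ⟨m, hm⟩ : ∃ m, Nat.find hex = m + 1 := ⟨Nat.find hex - 1, by
      have : Nat.find hex ≠ 0 := fun h => by
        have := Nat.find_spec hex
        rw [h, pow_zero, Ideal.one_eq_top] at this
        exact this trivial
      omega⟩
    have hxm : x ∈ Ideal.span {t} ^ m := not_not.mp (Nat.find_min hex (by omega))
    rw [Ideal.span_singleton_pow, Ideal.mem_span_singleton'] at hxm
    obtain ⟨a, rfl⟩ := hxm
    refine ⟨a, fun c => (hx' c).trans ⟨fun h => ?_, fun h => by rw [← mul_assoc, h, zero_mul]⟩, fun h => ?_⟩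
    · exact hreg.pow m (by rw [smul_eq_mul, smul_zero]; rw [← h]; ring :
        t ^ m • (c * a) = t ^ m • (0 : A))
    · obtain ⟨d, rfl⟩ := Ideal.mem_span_singleton'.mp h
      apply (hm ▸ Nat.find_spec hex)
      rw [Ideal.span_singleton_pow, Ideal.mem_span_singleton']
      exact ⟨d, by ring⟩
  let π := Ideal.Quotient.mk (Ideal.span {t})
  have hkill : ∀ c ∈ maximalIdeal A, π (c * a) = 0 := by
    intro c hc
    have hrad : c ∈ (p ⊔ Ideal.span {t}).radical := by
      rw [Ideal.radical_eq_sInf, Submodule.mem_sInf]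
      rintro q ⟨hq, hqP⟩
      rw [hmin q hqP (le_sup_left.trans hq) (hq (Ideal.mem_sup_right (Ideal.mem_span_singleton_self t)))]
      exact hc
    obtain ⟨n, hn⟩ := hrad
    obtain ⟨y, hy, z, hz, hyz⟩ := Submodule.mem_sup.mp hn
    have h0 : π (c ^ n * a) = 0 := by
      rw [← hyz, add_mul, (ha y).mp hy, zero_add, Ideal.Quotient.eq_zero_iff_mem]
      exact Ideal.mul_mem_right _ _ hz
    refine IsNilpotent.eq_zero ⟨n + 1, ?_⟩
    rw [show (π (c * a)) ^ (n + 1) = π (c ^ n * a) * π (c * a ^ n) by
      rw [← map_pow, ← map_mul]; congr 1; ring, h0, zero_mul]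
  have hmax : ∀ q : Ideal A, q.IsPrime → t ∈ q → q = maximalIdeal A := by
    intro q hq htq
    haveI := hq
    obtain ⟨q₀, hq₀, hq₀le⟩ := Ideal.exists_minimalPrimes_le
      (I := Ideal.span {t}) (J := q) ((Ideal.span_singleton_le_iff_mem _).mpr htq)
    refine le_antisymm (IsLocalRing.le_maximalIdeal hq.ne_top) ?_
    by_contra hcon
    obtain ⟨c, hc, hcq⟩ := SetLike.not_le_iff_exists.mp hcon
    have haq : a ∈ q := (hq.mem_or_mem (((Ideal.span_singleton_le_iff_mem _).mpr htq)
      (Ideal.Quotient.eq_zero_iff_mem.mp (hkill c hc)))).resolve_left hcq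
    -- every minimal prime over `t` missing `a` equals the maximal ideal
    obtain ⟨r, hr, har⟩ : ∃ r : Ideal A, r ∈ (Ideal.span {t}).minimalPrimes ∧ a ∉ r := by
      by_contra hcon'
      push Not at hcon'
      apply hat
      have : a ∈ (Ideal.span {t}).radical := by
        rw [← Ideal.sInf_minimalPrimes, Submodule.mem_sInf]; exact hcon'
      obtain ⟨n, hn⟩ := this
      rw [← Ideal.Quotient.eq_zero_iff_mem]
      exact IsNilpotent.eq_zero ⟨n, by rw [← map_pow, Ideal.Quotient.eq_zero_iff_mem]; exact hn⟩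
    have hrm : maximalIdeal A ≤ r := fun c' hc' =>
      (hr.1.1.mem_or_mem (hr.1.2 (Ideal.Quotient.eq_zero_iff_mem.mp (hkill c' hc')))).resolve_right har
    exact hcq ((hrm.trans (hr.2 ⟨hq₀.1.1, hq₀.1.2⟩ (fun z hz => hrm
      (IsLocalRing.le_maximalIdeal hq₀.1.1.ne_top hz)))).trans hq₀le hc)
  have hm : maximalIdeal A = Ideal.span {t} := by
    refine le_antisymm ?_ ((Ideal.span_singleton_le_iff_mem _).mpr ht)
    intro c hc
    have : c ∈ (Ideal.span {t}).radical := by
      rw [Ideal.radical_eq_sInf, Submodule.mem_sInf]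
      rintro q ⟨hq, hqP⟩
      rw [hmax q hqP (hq (Ideal.mem_span_singleton_self t))]
      exact hc
    obtain ⟨n, hn⟩ := this
    rw [← Ideal.Quotient.eq_zero_iff_mem]
    exact IsNilpotent.eq_zero ⟨n, by rw [← map_pow, Ideal.Quotient.eq_zero_iff_mem]; exact hn⟩
  refine ⟨?_, hmax⟩
  have hp0 : p = ⊥ := by
    refine Submodule.eq_bot_of_le_smul_of_le_jacobson_bot (Ideal.span {t}) p
      p.fg_of_isNoetherianRing ?_ (by rw [← hm]; exact IsLocalRing.maximalIdeal_le_jacobson _)
    intro z hz
    have hzm : z ∈ Ideal.span {t} := hm ▸ IsLocalRing.le_maximalIdeal (Ideal.IsPrime.ne_top inferInstance) hz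
    obtain ⟨d, rfl⟩ := Ideal.mem_span_singleton'.mp hzm
    rw [mul_comm d t]
    exact Submodule.smul_mem_smul (Ideal.mem_span_singleton_self t)
      (((Ideal.IsPrime.mem_or_mem inferInstance hz)).resolve_right htp)
  haveI : (⊥ : Ideal A).IsPrime := hp0 ▸ inferInstance
  exact IsDomain.of_bot_isPrime A

theorem exists_uniformizer {R : Type u} [CommRing R] [IsDomain R] [IsDiscreteValuationRing R]
    {P : ↥(Spec (CommRingCat.of R))} (hP : P = IsLocalRing.closedPoint R) :
    ∃ a : (Spec (CommRingCat.of R)).presheaf.stalk P,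
      IsSMulRegular ((Spec (CommRingCat.of R)).presheaf.stalk P) a ∧
      maximalIdeal ((Spec (CommRingCat.of R)).presheaf.stalk P) = Ideal.span {a} := by
  subst hP
  let e : (Spec (CommRingCat.of R)).presheaf.stalk (IsLocalRing.closedPoint R) ≃+* R :=
    (stalkClosedPointIso (CommRingCat.of R)).commRingCatIsoToRingEquiv
  obtain ⟨ϖ, hϖ⟩ := IsDiscreteValuationRing.exists_irreducible R
  refine ⟨e.symm ϖ, ?_, ?_⟩
  · intro x y hxy
    apply e.injective
    refine mul_left_cancel₀ hϖ.ne_zero ?_
    simpa [smul_eq_mul, map_mul] using congrArg e hxy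
  · rw [← Set.image_singleton (f := e.symm), ← Ideal.map_span, ← hϖ.maximalIdeal_eq]
    exact (IsLocalRing.eq_maximalIdeal (Ideal.map_isMaximal_of_equiv e.symm (p := maximalIdeal R))).symm

theorem exists_maximal_in_closed {Z : Scheme.{u}} {C : Set Z} (hC : IsClosed C) (hne : C.Nonempty) :
    ∃ w ∈ C, ∀ w' ∈ C, w' ⤳ w → w' = w := by
  obtain ⟨w₀, hw₀⟩ := hne
  haveI : QuasiSober C := hC.isClosedEmbedding_subtypeVal.quasiSober
  let c : Set C := irreducibleComponent (⟨w₀, hw₀⟩ : C)
  have hc : IsIrreducible c := isIrreducible_irreducibleComponent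
  obtain ⟨g, hg⟩ := QuasiSober.sober hc isClosed_irreducibleComponent
  refine ⟨g.1, g.2, fun w' hw' h => ?_⟩
  have h' : (⟨w', hw'⟩ : C) ⤳ g := subtype_specializes_iff _ _ |>.2 h
  have hsub : c ⊆ closure {⟨w', hw'⟩} := hg.def ▸ closure_minimal
    (Set.singleton_subset_iff.2 h'.mem_closure) isClosed_closure
  have he := (irreducibleComponent_mem_irreducibleComponents (⟨w₀, hw₀⟩ : C)).2
    isIrreducible_singleton.closure hsub
  have h'' : g ⤳ (⟨w', hw'⟩ : C) := specializes_iff_mem_closure.2 (hg.def.symm ▸ he (subset_closure rfl))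
  exact congrArg Subtype.val (h'.antisymm h'').eq

variable {R : Type u} [CommRing R] [IsDomain R] [IsDiscreteValuationRing R] {T : Scheme.{u}}
  (q : T ⟶ Spec (CommRingCat.of R))

/-- Maximal points over the generic point are injected into the generic points of the special fibre. -/
theorem exists_injection [IsLocallyNoetherian T] [Flat q] [UniversallyClosed q]
    [AlgebraicGeometry.IsReduced (q.fiber (closedPoint R))] :
    ∃ F : {η : T // ∀ z, z ⤳ η → z = η} → {x : T // q x = closedPoint R ∧
        ∀ z, q z = closedPoint R → z ⤳ x → z = x}, Function.Injective F := by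
  have key : ∀ η : T, (∀ z, z ⤳ η → z = η) → ∃ x : T, η ⤳ x ∧ q x = closedPoint R ∧
      (∀ z, q z = closedPoint R → z ⤳ x → z = x) ∧ (∀ η' : T, (∀ z, z ⤳ η' → z = η') → η' ⤳ x → η' = η) := by
    intro η hη
    have hcl : IsClosed (q '' closure {η}) := q.isClosedMap _ isClosed_closure
    obtain ⟨x₀, hx₀, hqx₀⟩ : closedPoint R ∈ q '' closure {η} :=
      (IsLocalRing.specializes_closedPoint (q η : PrimeSpectrum R)).mem_closed hcl
        ⟨η, subset_closure rfl, rfl⟩
    -- a point of `closure {η}` over the closed point, maximal among such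
    obtain ⟨x, hxη, hqx, hxmax⟩ : ∃ x, η ⤳ x ∧ q x = closedPoint R ∧
        ∀ z, q z = closedPoint R → η ⤳ z → z ⤳ x → z = x := by
      have hS : IsClosed (closure {η} ∩ q ⁻¹' {closedPoint R}) :=
        isClosed_closure.inter ((IsLocalRing.isClosed_singleton_closedPoint R).preimage q.continuous)
      obtain ⟨x, hxmem, hgen⟩ := exists_maximal_in_closed hS ⟨x₀, hx₀, hqx₀⟩
      exact ⟨x, specializes_iff_mem_closure.mpr hxmem.1, hxmem.2, fun z hz hηz hzx =>
        hgen z ⟨specializes_iff_mem_closure.mp hηz, hz⟩ hzx⟩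
    obtain ⟨a, hareg, hamax⟩ := exists_uniformizer hqx
    let A := T.presheaf.stalk x
    let t : A := (q.stalkMap x).hom a
    have ht : t ∈ maximalIdeal A := fun hu => (show a ∈ maximalIdeal _ from
      hamax ▸ Ideal.mem_span_singleton_self a) (isUnit_of_map_unit _ a hu)
    have hreg : IsSMulRegular A t := by
      letI := (q.stalkMap x).hom.toAlgebra
      haveI : Module.Flat ((Spec (CommRingCat.of R)).presheaf.stalk (q x)) A := Flat.stalkMap q x
      intro y z hyz
      refine IsSMulRegular.of_flat (S := A) hareg ?_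
      simpa [t, smul_eq_mul, RingHom.algebraMap_toAlgebra] using hyz
    have hred : _root_.IsReduced (A ⧸ Ideal.span {t}) := by
      obtain ⟨w, rfl⟩ : x ∈ Set.range (q.fiberι (closedPoint R)) := by
        rw [Scheme.Hom.range_fiberι]; exact hqx
      have hk : Ideal.span {t} = RingHom.ker ((q.fiberι (closedPoint R)).stalkMap w).hom := by
        rw [FlatDvr.ker_stalkMap_fiberι q w, hamax, Ideal.map_span, Set.image_singleton]
      rw [hk]
      exact isReduced_of_injective (RingHom.kerLift _) (RingHom.kerLift_injective _)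
    have hiff : ∀ P : ↥(Spec A), (q (T.fromSpecStalk x P) = closedPoint R ↔ t ∈ P.asIdeal) := by
      intro P
      have e1 : q (T.fromSpecStalk x P) =
          (Spec (CommRingCat.of R)).fromSpecStalk (q x) (Spec.map (q.stalkMap x) P) := by
        rw [← Scheme.Hom.comp_apply, ← Scheme.Hom.comp_apply, Scheme.SpecMap_stalkMap_fromSpecStalk]
      rw [e1]
      constructor
      · intro h
        have : Spec.map (q.stalkMap x) P = closedPoint _ := by
          refine ((Spec (CommRingCat.of R)).fromSpecStalk (q x)).isEmbedding.injective ?_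
          rw [h, Scheme.fromSpecStalk_closedPoint, hqx]
        have h' : Ideal.comap (q.stalkMap x).hom P.asIdeal = maximalIdeal _ :=
          congrArg PrimeSpectrum.asIdeal this
        exact (Ideal.mem_comap.mp (h' ▸ hamax ▸ Ideal.mem_span_singleton_self a))
      · intro h
        have : Spec.map (q.stalkMap x) P = closedPoint _ := by
          refine PrimeSpectrum.ext (le_antisymm (IsLocalRing.le_maximalIdeal (Ideal.IsPrime.ne_top inferInstance)) ?_)
          show maximalIdeal _ ≤ Ideal.comap (q.stalkMap x).hom P.asIdeal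
          rw [hamax, Ideal.span_singleton_le_iff_mem]
          exact h
        rw [this, Scheme.fromSpecStalk_closedPoint, hqx]
    have hpt : ∀ z, z ⤳ x → ∃ P : ↥(Spec A), T.fromSpecStalk x P = z := fun z hz => by
      have : z ∈ Set.range (T.fromSpecStalk x) := by rw [Scheme.range_fromSpecStalk]; exact hz
      exact this
    have hspec : ∀ P Q : ↥(Spec A), (T.fromSpecStalk x P ⤳ T.fromSpecStalk x Q ↔ P.asIdeal ≤ Q.asIdeal) :=
      fun P Q => (T.fromSpecStalk x).isEmbedding.isInducing.specializes_iff.trans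
        (PrimeSpectrum.le_iff_specializes P Q).symm
    obtain ⟨Pη, hPη⟩ := hpt η hxη
    have hminP : ∀ P : ↥(Spec A), (∀ z, z ⤳ T.fromSpecStalk x P → z = T.fromSpecStalk x P) →
        P.asIdeal ∈ minimalPrimes A := by
      intro P hP
      refine ⟨⟨inferInstance, bot_le⟩, fun r ⟨hr, _⟩ hrle => ?_⟩
      have h1 := hP _ ((hspec ⟨r, hr⟩ P).mpr hrle)
      exact ((T.fromSpecStalk x).isEmbedding.injective h1).symm ▸ le_rfl
    obtain ⟨hdom, hmax⟩ := isDomain_of_minimal_over ht hreg hred (hminP Pη (hPη.symm ▸ hη)) (by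
      intro r hr hle htr
      have h1 := hxmax (T.fromSpecStalk x ⟨r, hr⟩) ((hiff ⟨r, hr⟩).mpr htr)
        (hPη ▸ (hspec Pη ⟨r, hr⟩).mpr hle) ((Scheme.range_fromSpecStalk (X := T) (x := x)).le ⟨_, rfl⟩)
      have : (⟨r, hr⟩ : ↥(Spec A)) = closedPoint A := by
        refine (T.fromSpecStalk x).isEmbedding.injective ?_
        rw [h1, Scheme.fromSpecStalk_closedPoint]
      exact congrArg PrimeSpectrum.asIdeal this)
    refine ⟨x, hxη, hqx, fun z hz hzx => ?_, fun η' hη' hη'x => ?_⟩
    · obtain ⟨P, rfl⟩ := hpt z hzx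
      have : P = closedPoint A := PrimeSpectrum.ext (hmax _ inferInstance ((hiff P).mp hz))
      rw [this, Scheme.fromSpecStalk_closedPoint]
    · obtain ⟨P', rfl⟩ := hpt η' hη'x
      have h1 : ∀ Q : ↥(Spec A), Q.asIdeal ∈ minimalPrimes A → Q.asIdeal = ⊥ := fun Q hQ =>
        le_bot_iff.mp (hQ.2 ⟨Ideal.isPrime_bot, le_rfl⟩ bot_le)
      rw [← hPη]
      congr 1
      exact PrimeSpectrum.ext ((h1 P' (hminP P' hη')).trans (h1 Pη (hminP Pη (hPη.symm ▸ hη))).symm)
  choose x hx1 hx2 hx3 hx4 using key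
  refine ⟨fun η => ⟨x η.1 η.2, hx2 η.1 η.2, hx3 η.1 η.2⟩, fun a b hab => Subtype.ext ?_⟩
  have h : x a.1 a.2 = x b.1 b.2 := congrArg Subtype.val hab
  exact hx4 b.1 b.2 a.1 a.2 (h ▸ hx1 a.1 a.2)

end Groth.Agent.UpperComp
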