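import Mathlib
import Groth.Agent.UpperComp.Local
import Groth.Agent.Proj16.DVRPath
import Groth.Agent.GenIrr.Basic
import Groth.Agent.S1334
import Groth.Agent.S9735
import Groth.Agent.S7564
import Groth.Agent.S1301
import Groth.Agent.GeomComp5.Constancy
import Groth.Agent.SpecLib.Constr

/-!
# Upper semicontinuity of the number of components of geometrically reduced fibres
-/

set_option autoImplicit false
set_option backward.isDefEq.respectTransparency false
set_option backward.isDefEq.respectTransparency.types false
universe u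

open AlgebraicGeometry CategoryTheory CategoryTheory.Limits IsLocalRing

namespace Groth.Agent.UpperComp

/-- Points without proper generizations. -/
abbrev MaxPt (X : Scheme.{u}) := {η : X // ∀ z, z ⤳ η → z = η}

theorem isGenericPoint_maxPt {X : Scheme.{u}} (η : MaxPt X) :
    closure ({η.1} : Set X) ∈ irreducibleComponents ↥X := by
  obtain ⟨Z, hZ, hη⟩ := exists_mem_irreducibleComponents_subset_of_isIrreducible {η.1} isIrreducible_singleton
  have hg := (hZ.1.isGenericPoint_genericPoint (isClosed_of_mem_irreducibleComponents Z hZ))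
  have h := η.2 _ (hg.specializes (hη rfl))
  rw [← h, hg.def]
  exact hZ

theorem card_maxPt (X : Scheme.{u}) : ENat.card (MaxPt X) = (irreducibleComponents ↥X).encard := by
  rw [← ENat.card_coe_set_eq]
  refine ENat.card_congr (Equiv.ofBijective (fun η => ⟨closure {η.1}, isGenericPoint_maxPt η⟩)
    ⟨fun a b h => Subtype.ext ?_, fun Z => ?_⟩)
  · exact (isGenericPoint_closure (x := a.1)).eq (by
      show IsGenericPoint b.1 _
      rw [show closure ({a.1} : Set X) = closure {b.1} from congrArg Subtype.val h]
      exact isGenericPoint_closure)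
  · have hg := Z.2.1.isGenericPoint_genericPoint (isClosed_of_mem_irreducibleComponents Z.1 Z.2)
    refine ⟨⟨Z.2.1.genericPoint, fun z hz => ?_⟩, Subtype.ext hg.def⟩
    have h1 : Z.1 ⊆ closure {z} := hg.def ▸ closure_minimal
      (Set.singleton_subset_iff.2 hz.mem_closure) isClosed_closure
    have h2 := Z.2.2 ((isIrreducible_singleton (x := z)).closure) h1
    exact ((hg.specializes (h2 (subset_closure rfl))).antisymm hz).eq.symm

theorem encard_components_homeo {X Y : Scheme.{u}} (θ : ↥X ≃ₜ ↥Y) :
    (irreducibleComponents ↥X).encard = (irreducibleComponents ↥Y).encard := by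
  rw [← card_maxPt, ← card_maxPt]
  refine ENat.card_congr (Equiv.subtypeEquiv θ.toEquiv fun a => ?_)
  constructor
  · intro ha z hz
    have h1 := hz.map θ.symm.continuous
    rw [show θ.symm (θ.toEquiv a) = a from θ.symm_apply_apply a] at h1
    have h2 := congrArg θ (ha _ h1)
    rwa [θ.apply_symm_apply] at h2
  · intro ha z hz
    exact θ.injective (ha _ (hz.map θ.continuous))

theorem finite_components {X : Scheme.{u}} {K : Type u} [Field K] (f : X ⟶ Spec (CommRingCat.of K))
    [LocallyOfFiniteType f] [QuasiCompact f] : (irreducibleComponents ↥X).Finite := by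
  haveI := LocallyOfFiniteType.isLocallyNoetherian f
  haveI : CompactSpace ↥X := QuasiCompact.compactSpace_of_compactSpace f
  haveI : IsNoetherian X := {}
  exact TopologicalSpace.NoetherianSpace.finite_irreducibleComponents

/-- Geometrically irreducible components do not split. -/
theorem encard_components_pullback_le {L K : Type u} [Field L] [Field K] {F : Scheme.{u}}
    (π : F ⟶ Spec (CommRingCat.of L)) (h : GenIrr.CompsGI π)
    (j : Spec (CommRingCat.of K) ⟶ Spec (CommRingCat.of L)) :
    (irreducibleComponents ↥(pullback π j)).encard ≤ (irreducibleComponents ↥F).encard := by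
  classical
  let p := pullback.fst π j
  have hirr : ∀ Z ∈ irreducibleComponents ↥F, IsIrreducible (p ⁻¹' Z) := by
    intro Z hZ
    let ι := (Scheme.IdealSheafData.vanishingIdeal
      (⟨Z, isClosed_of_mem_irreducibleComponents Z hZ⟩ : TopologicalSpace.Closeds _)).subschemeι
    haveI := h Z hZ
    let m : pullback (ι ≫ π) j ⟶ pullback π j := pullback.map _ _ _ _ ι (𝟙 _) (𝟙 _) (by simp) (by simp)
    haveI : IrreducibleSpace ↥(pullback (ι ≫ π) j) :=
      GeometricallyIrreducible.geometrically_irreducibleSpace (f := ι ≫ π) _ _ _ (.of_hasPullback _ _)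
    have hr : Set.range m = p ⁻¹' Z := by
      rw [Scheme.Pullback.range_map]
      simp only [Scheme.Hom.id_base, TopCat.coe_id, Set.range_id, Set.preimage_univ, Set.inter_univ]
      exact congrArg _ (GenIrr.range_vanishing _)
    rw [← hr, ← Set.image_univ]
    exact (IrreducibleSpace.isIrreducible_univ _).image m m.continuous.continuousOn
  have hex : ∀ C : irreducibleComponents ↥(pullback π j), ∃ Z : irreducibleComponents ↥F, p ⁻¹' Z.1 = C.1 := by
    intro C
    obtain ⟨Z, hZ, hCZ⟩ := exists_mem_irreducibleComponents_subset_of_isIrreducible _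
      (C.2.1.image p p.continuous.continuousOn)
    exact ⟨⟨Z, hZ⟩, le_antisymm (C.2.2 (hirr Z hZ) (Set.image_subset_iff.mp hCZ))
      (Set.image_subset_iff.mp hCZ)⟩
  choose g hg using hex
  rw [← ENat.card_coe_set_eq, ← ENat.card_coe_set_eq]
  exact ENat.card_le_card_of_injective (f := g) fun a b hab =>
    Subtype.ext ((hg a).symm.trans ((congrArg (fun Z => p ⁻¹' Z.1) hab).trans (hg b)))

theorem nGeomIrredComp_le_of_compsGI {L : Type u} [Field L] {F : Scheme.{u}}
    (π : F ⟶ Spec (CommRingCat.of L)) (h : GenIrr.CompsGI π) (s : ↥(Spec (CommRingCat.of L))) :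
    MoreMor.nGeomIrredComp π s ≤ (irreducibleComponents ↥F).encard := by
  let ρ := Spec.map (CommRingCat.ofHom (algebraMap ((Spec (CommRingCat.of L)).residueField s)
    (SeparableClosure ((Spec (CommRingCat.of L)).residueField s))))
  let j := ρ ≫ (Spec (CommRingCat.of L)).fromSpecResidueField s
  have h1 : IsPullback (pullback.fst (π.fiberToSpecResidueField s) ρ ≫ π.fiberι s)
      (pullback.snd (π.fiberToSpecResidueField s) ρ) π j :=
    (IsPullback.of_hasPullback (π.fiberToSpecResidueField s) ρ).paste_horiz
      (IsPullback.of_hasPullback π _)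
  let e := h1.isoPullback
  calc MoreMor.nGeomIrredComp π s = (irreducibleComponents ↥(pullback π j)).encard := by
        show (irreducibleComponents ↥(MoreMor.geomFiber π s)).encard = _
        exact encard_components_homeo (Scheme.homeoOfIso e)
    _ ≤ _ := encard_components_pullback_le π h j

theorem exists_dvr_field {Y : Scheme.{u}} [IsLocallyNoetherian Y] {y' y : Y} (hsp : y' ⤳ y) (hne : y ≠ y')
    (L : Type u) [Field L] [Algebra (Y.residueField y') L] [Module.Finite (Y.residueField y') L] :
    ∃ (V : ValuationSubring L) (τ : Spec (CommRingCat.of V) ⟶ Y),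
      IsDiscreteValuationRing V ∧ τ (closedPoint V) = y ∧
      Spec.map (CommRingCat.ofHom V.subtype) ≫ τ =
        Spec.map (CommRingCat.ofHom (algebraMap (Y.residueField y') L)) ≫ Y.fromSpecResidueField y' := by
  have hsp' : (𝟙 Y : Y ⟶ Y) y' ⤳ y := hsp
  let ψ := Proj16.specMapResidue (p := 𝟙 Y) (x := y') hsp'
  let φ : Y.presheaf.stalk y →+* L := (algebraMap (Y.residueField y') L).comp ψ.hom
  algebraize [φ]
  haveI : Algebra.EssFiniteType (Y.presheaf.stalk y) L := by
    refine RingHom.essFiniteType_algebraMap.mp ?_
    exact (RingHom.EssFiniteType.comp (Proj16.essFiniteType_specMapResidue hsp')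
      (RingHom.essFiniteType_algebraMap.mpr inferInstance))
  obtain ⟨a, ha, ha0⟩ := Proj16.exists_maximalIdeal_ne_zero hsp' (fun h => hne h)
  obtain ⟨V, hV, hmem, hloc⟩ := Proj16.exists_dvr_dominating (Y.presheaf.stalk y) L
    ⟨a, ha, fun h => ha0 ((algebraMap (Y.residueField y') L).injective (by rw [map_zero]; exact h))⟩
  let g : Y.presheaf.stalk y ⟶ CommRingCat.of V :=
    CommRingCat.ofHom (φ.codRestrict V.toSubring hmem)
  refine ⟨V, Spec.map g ≫ Y.fromSpecStalk y, hV, ?_, ?_⟩
  · rw [Scheme.Hom.comp_apply]
    have hcl : Spec.map g (closedPoint V) = closedPoint _ :=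
      haveI : IsLocalHom g.hom := hloc
      IsLocalRing.comap_closedPoint g.hom
    rw [hcl, Scheme.fromSpecStalk_closedPoint]
  · have h1 : g ≫ CommRingCat.ofHom V.subtype = ψ ≫ CommRingCat.ofHom (algebraMap (Y.residueField y') L) := rfl
    rw [← Spec.map_comp_assoc, h1, Spec.map_comp_assoc, Proj16.specMapResidue_fromSpecStalk,
      Category.comp_id]

theorem isReduced_of_geometricallyReduced {K : CommRingCat.{u}} {F : Scheme.{u}} (hK : IsField K)
    (π : F ⟶ Spec K) [GeometricallyReduced π] : AlgebraicGeometry.IsReduced F := by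
  letI := hK.toField
  exact GeometricallyReduced.geometrically_isReduced (f := π) (𝟙 (Spec (CommRingCat.of K))) (𝟙 F) π
    (IsPullback.of_horiz_isIso ⟨by simp⟩)

/-- Under flat proper morphisms with geometrically reduced fibres the number of geometric components
does not grow under generization. -/
theorem nGeomIrredComp_le_of_specializes {X Y : Scheme.{u}} [IsLocallyNoetherian Y] (f : X ⟶ Y)
    [Flat f] [IsProper f] {y' y : Y} (hsp : y' ⤳ y)
    (hred : GeometricallyReduced (f.fiberToSpecResidueField y)) :
    MoreMor.nGeomIrredComp f y' ≤ MoreMor.nGeomIrredComp f y := by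
  rcases eq_or_ne y y' with rfl | hne
  · exact le_rfl
  letI : (f.fiber y').Over (Spec (CommRingCat.of (Y.residueField y'))) := ⟨f.fiberToSpecResidueField y'⟩
  haveI : LocallyOfFiniteType (f.fiber y' ↘ Spec (CommRingCat.of (Y.residueField y'))) :=
    MorphismProperty.pullback_snd (P := @LocallyOfFiniteType) _ _ inferInstance
  haveI : QuasiCompact (f.fiber y' ↘ Spec (CommRingCat.of (Y.residueField y'))) :=
    MorphismProperty.pullback_snd (P := @QuasiCompact) _ _ inferInstance
  obtain ⟨L, _, _, _, _, hL⟩ := S1654.result (Y.residueField y') (f.fiber y')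
    (finite_components (f.fiber y' ↘ Spec (CommRingCat.of (Y.residueField y'))))
  obtain ⟨V, τ, hV, hτc, hτL⟩ := exists_dvr_field hsp hne L
  haveI := hV
  let q : pullback f τ ⟶ Spec (CommRingCat.of V) := pullback.snd f τ
  haveI : IsLocallyNoetherian (pullback f τ) := LocallyOfFiniteType.isLocallyNoetherian q
  have hredq : GeometricallyReduced (q.fiberToSpecResidueField (closedPoint V)) :=
    ((Set.ext_iff.mp (S9735.result f τ q (pullback.fst f τ) (IsPullback.of_hasPullback f τ))
      (closedPoint V)).mpr (show GeometricallyReduced (f.fiberToSpecResidueField (τ (closedPoint V))) by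
        rw [hτc]; exact hred))
  haveI : AlgebraicGeometry.IsReduced (q.fiber (closedPoint V)) :=
    haveI := hredq
    isReduced_of_geometricallyReduced (Field.toIsField _) (q.fiberToSpecResidueField (closedPoint V))
  obtain ⟨F, hF⟩ := exists_injection q
  -- the generic fibre over `L`
  let B := Curv2.bc (Y.residueField y') (f.fiber y') L
  let π : B ⟶ Spec (CommRingCat.of L) := Curv2.bcSnd (Y.residueField y') (f.fiber y') L
  let j : Spec (CommRingCat.of L) ⟶ Spec (CommRingCat.of V) := Spec.map (CommRingCat.ofHom V.subtype)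
  have hB : IsPullback (Curv2.bcFst (Y.residueField y') (f.fiber y') L ≫ f.fiberι y') π f (j ≫ τ) := by
    rw [hτL]
    exact (IsPullback.of_hasPullback (f.fiberToSpecResidueField y') _).paste_horiz
      (IsPullback.of_hasPullback f _)
  let a : B ⟶ pullback f τ := pullback.lift (Curv2.bcFst (Y.residueField y') (f.fiber y') L ≫ f.fiberι y')
    (π ≫ j) (by rw [hB.w, Category.assoc])
  have hBq : IsPullback a π q j := by
    refine IsPullback.of_right ?_ (pullback.lift_snd _ _ _) (IsPullback.of_hasPullback f τ)
    rw [pullback.lift_fst]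
    exact hB
  have hrj : Set.range j = {(⟨⊥, Ideal.isPrime_bot⟩ : PrimeSpectrum V)} := by
    rw [Set.range_eq_singleton_iff]
    intro z
    refine PrimeSpectrum.ext ?_
    show Ideal.comap V.subtype z.asIdeal = ⊥
    rw [(Ideal.eq_bot_or_top z.asIdeal).resolve_right (Ideal.IsPrime.ne_top inferInstance)]
    exact (RingHom.injective_iff_ker_eq_bot _).mp Subtype.coe_injective
  haveI : IsPreimmersion j := by
    refine IsPreimmersion.mk_SpecMap (Topology.IsEmbedding.of_subsingleton _) ?_
    letI : Algebra V L := V.subtype.toAlgebra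
    exact RingHom.surjectiveOnStalks_of_isLocalization (nonZeroDivisors V) L
  haveI : IsPreimmersion a := MorphismProperty.of_isPullback (P := @IsPreimmersion) hBq.flip inferInstance
  have hmax : ∀ η : MaxPt B, ∀ z, z ⤳ a η.1 → z = a η.1 := by
    intro η z hz
    have h0 : q z = (⟨⊥, Ideal.isPrime_bot⟩ : PrimeSpectrum V) := by
      have hb : q (a η.1) = (⟨⊥, Ideal.isPrime_bot⟩ : PrimeSpectrum V) := by
        rw [← Scheme.Hom.comp_apply, hBq.w, Scheme.Hom.comp_apply]
        exact Set.mem_singleton_iff.mp (hrj ▸ Set.mem_range_self _)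
      refine PrimeSpectrum.ext (le_bot_iff.mp ?_)
      have := hz.map q.continuous
      rw [hb] at this
      exact (PrimeSpectrum.le_iff_specializes _ _).mpr this
    obtain ⟨l, hl⟩ : q z ∈ Set.range j := by rw [hrj, h0]; rfl
    obtain ⟨w, hw, -⟩ := Scheme.exists_preimage_of_isPullback hBq z l hl.symm
    subst hw
    exact congrArg a (η.2 w (a.isEmbedding.isInducing.specializes_iff.mp hz))
  have hcount : (irreducibleComponents ↥B).encard ≤ (irreducibleComponents ↥(q.fiber (closedPoint V))).encard := by
    rw [← card_maxPt, ← card_maxPt]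
    let G : MaxPt B → {x : ↥(pullback f τ) // q x = closedPoint V ∧
        ∀ z, q z = closedPoint V → z ⤳ x → z = x} := fun η => F ⟨a η.1, hmax η⟩
    have hG : Function.Injective G := fun x y hxy =>
      Subtype.ext (a.isEmbedding.injective (congrArg Subtype.val (hF hxy)))
    have hlift : ∀ x : {x : ↥(pullback f τ) // q x = closedPoint V ∧
        ∀ z, q z = closedPoint V → z ⤳ x → z = x}, ∃ w : MaxPt (q.fiber (closedPoint V)),
        q.fiberι (closedPoint V) w.1 = x.1 := by
      intro x
      obtain ⟨w, hw⟩ : x.1 ∈ Set.range (q.fiberι (closedPoint V)) := by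
        rw [Scheme.Hom.range_fiberι]; exact x.2.1
      refine ⟨⟨w, fun z hz => (q.fiberι (closedPoint V)).isEmbedding.injective ?_⟩, hw⟩
      rw [hw]
      refine x.2.2 _ ?_ (hw ▸ hz.map (q.fiberι (closedPoint V)).continuous)
      have : q.fiberι (closedPoint V) z ∈ Set.range (q.fiberι (closedPoint V)) := ⟨z, rfl⟩
      rw [Scheme.Hom.range_fiberι] at this
      exact this
    choose H hH using hlift
    exact ENat.card_le_card_of_injective (f := H ∘ G) (Function.Injective.comp
      (fun x y h => Subtype.ext ((hH x).symm.trans ((congrArg (fun w : MaxPt _ => q.fiberι _ w.1) h).trans (hH y))))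
      hG)
  have e1 : MoreMor.nGeomIrredComp π (closedPoint L) = MoreMor.nGeomIrredComp f y' := by
    rw [S1334.result f π _ _ hB (closedPoint L), hτL, Scheme.Hom.comp_apply]
    exact congrArg _ (Scheme.fromSpecResidueField_apply y' _)
  have e2 : MoreMor.nGeomIrredComp q (closedPoint V) = MoreMor.nGeomIrredComp f y := by
    rw [S1334.result f q _ _ (IsPullback.of_hasPullback f τ) (closedPoint V), hτc]
  have hspecial : (irreducibleComponents ↥(q.fiber (closedPoint V))).encard ≤
      MoreMor.nGeomIrredComp q (closedPoint V) := by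
    let κ := (Spec (CommRingCat.of V)).residueField (closedPoint V)
    let ρ := Spec.map (CommRingCat.ofHom (algebraMap κ (SeparableClosure κ)))
    let g := pullback.fst (q.fiberToSpecResidueField (closedPoint V)) ρ
    haveI : Surjective ρ := ⟨fun z => ⟨closedPoint _, Subsingleton.elim _ _⟩⟩
    haveI : Surjective g := MorphismProperty.pullback_fst (P := @Surjective) _ _ inferInstance
    haveI : LocallyOfFiniteType (q.fiberToSpecResidueField (closedPoint V)) :=
      MorphismProperty.pullback_snd (P := @LocallyOfFiniteType) _ _ inferInstance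
    haveI : QuasiCompact (q.fiberToSpecResidueField (closedPoint V)) :=
      MorphismProperty.pullback_snd (P := @QuasiCompact) _ _ inferInstance
    have hfin := finite_components (pullback.snd (q.fiberToSpecResidueField (closedPoint V)) ρ)
    obtain ⟨h1, h2⟩ := S7564.result g g.continuous g.surjective hfin
    rw [← h1.cast_ncard_eq]
    exact (Nat.cast_le.mpr h2).trans_eq hfin.cast_ncard_eq
  rw [← e1, ← e2]
  exact (nGeomIrredComp_le_of_compsGI π hL _).trans (hcount.trans hspecial)

/-- Over an algebraically closed field there is nothing to count geometrically. -/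
theorem nGeomIrredComp_of_isSepClosed {K : Type u} [Field K] [IsSepClosed K] {F : Scheme.{u}}
    (π : F ⟶ Spec (CommRingCat.of K)) [LocallyOfFiniteType π] [QuasiCompact π]
    (s : ↥(Spec (CommRingCat.of K))) :
    MoreMor.nGeomIrredComp π s = (irreducibleComponents ↥F).encard := by
  refine le_antisymm (nGeomIrredComp_le_of_compsGI π (fun Z hZ => ?_) s) ?_
  · let ι := (Scheme.IdealSheafData.vanishingIdeal
      (⟨Z, isClosed_of_mem_irreducibleComponents Z hZ⟩ : TopologicalSpace.Closeds _)).subschemeι
    letI : (Scheme.IdealSheafData.vanishingIdeal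
      (⟨Z, isClosed_of_mem_irreducibleComponents Z hZ⟩ : TopologicalSpace.Closeds _)).subscheme.Over
        (Spec (CommRingCat.of K)) := ⟨ι ≫ π⟩
    haveI : IrreducibleSpace ↥((Scheme.IdealSheafData.vanishingIdeal
      (⟨Z, isClosed_of_mem_irreducibleComponents Z hZ⟩ : TopologicalSpace.Closeds _)).subscheme) := by
      have hr : Set.range ι = Z := GenIrr.range_vanishing _
      haveI : IrreducibleSpace ↥(Set.range ι) := Subtype.irreducibleSpace (by rw [hr]; exact hZ.1)
      obtain ⟨z, hz⟩ := hZ.1.1
      obtain ⟨t, -⟩ : z ∈ Set.range ι := hr.symm ▸ hz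
      haveI : Nonempty ↥((Scheme.IdealSheafData.vanishingIdeal
        (⟨Z, isClosed_of_mem_irreducibleComponents Z hZ⟩ : TopologicalSpace.Closeds _)).subscheme) := ⟨t⟩
      exact ι.isEmbedding.toHomeomorph.isOpenEmbedding.irreducibleSpace
    exact GeomField.geometricallyIrreducible_of_isSepClosed (k := K)
      (X := (Scheme.IdealSheafData.vanishingIdeal
        (⟨Z, isClosed_of_mem_irreducibleComponents Z hZ⟩ : TopologicalSpace.Closeds _)).subscheme)
  · let κ := (Spec (CommRingCat.of K)).residueField s
    let ρ := Spec.map (CommRingCat.ofHom (algebraMap κ (SeparableClosure κ)))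
    let g := pullback.fst (π.fiberToSpecResidueField s) ρ ≫ π.fiberι s
    haveI : Surjective ρ := ⟨fun z => ⟨closedPoint _, Subsingleton.elim _ _⟩⟩
    haveI : Surjective (π.fiberι s) := ⟨fun z => by
      show z ∈ Set.range (π.fiberι s)
      rw [Scheme.Hom.range_fiberι]
      exact Subsingleton.elim _ _⟩
    haveI : Surjective (pullback.fst (π.fiberToSpecResidueField s) ρ) :=
      MorphismProperty.pullback_fst (P := @Surjective) _ _ inferInstance
    haveI : Surjective g := inferInstance
    haveI : LocallyOfFiniteType (π.fiberToSpecResidueField s) :=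
      MorphismProperty.pullback_snd (P := @LocallyOfFiniteType) _ _ inferInstance
    haveI : QuasiCompact (π.fiberToSpecResidueField s) :=
      MorphismProperty.pullback_snd (P := @QuasiCompact) _ _ inferInstance
    have hfin := finite_components (pullback.snd (π.fiberToSpecResidueField s) ρ)
    obtain ⟨h1, h2⟩ := S7564.result g g.continuous g.surjective hfin
    rw [← h1.cast_ncard_eq]
    exact (Nat.cast_le.mpr h2).trans_eq hfin.cast_ncard_eq

end Groth.Agent.UpperComp
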